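import Groth.Agent.EtProperH0Lib.SepFibres
import Groth.Agent.StrictHensBCLib.Integral

/-!
# Strict localisations up to universal homeomorphisms
-/

set_option autoImplicit false
set_option linter.style.haveILetI false
set_option linter.unusedSectionVars false
set_option backward.isDefEq.respectTransparency false
set_option backward.isDefEq.respectTransparency.types false
universe u

open CategoryTheory CategoryTheory.Limits AlgebraicGeometry Opposite IsLocalRing EtProperH0Lib
open scoped TensorProduct

namespace GenULocLib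

noncomputable section

/-- `SubmConn` can be checked after universal homeomorphisms on source and target. -/
theorem submConn_of_univHomeo {Z V Z₁ V₁ : Scheme.{u}} {p : Z ⟶ V} {p₁ : Z₁ ⟶ V₁} (q : Z₁ ⟶ Z) (π : V₁ ⟶ V)
    [Surjective q] [UniversallyClosed π] [UniversallyInjective π] [Surjective π] (w : p₁ ≫ π = q ≫ p)
    (h : SubmConn p₁) : SubmConn p := by
  have key : ∀ {S' : Scheme.{u}} (a : S' ⟶ V),
      IsPullback (pullback.fst p₁ (pullback.fst π a)) (pullback.snd p₁ (pullback.fst π a) ≫ pullback.snd π a)
        (q ≫ p) a := fun a => by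
    rw [← w]
    exact ((IsPullback.of_hasPullback p₁ (pullback.fst π a)).flip.paste_horiz (IsPullback.of_hasPullback π a).flip).flip
  refine ⟨fun S' a => ?_, fun Ω _ _ η => ?_⟩
  · let t : pullback p₁ (pullback.fst π a) ⟶ pullback p a :=
      pullback.lift (pullback.fst p₁ (pullback.fst π a) ≫ q) (pullback.snd p₁ (pullback.fst π a) ≫ pullback.snd π a)
        (by rw [Category.assoc]; exact (key a).w)
    haveI : UniversallyClosed (pullback.snd π a) := MorphismProperty.pullback_snd _ _ ‹_›
    haveI : UniversallyInjective (pullback.snd π a) := MorphismProperty.pullback_snd _ _ ‹_›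
    have hhom : Topology.IsQuotientMap (pullback.snd π a).base :=
      (pullback.snd π a).isClosedMap.isQuotientMap (pullback.snd π a).continuous (pullback.snd π a).surjective
    have hq := hhom.comp (h.1 _ (pullback.fst π a))
    rw [← TopCat.coe_comp, ← Scheme.Hom.comp_base,
      ← pullback.lift_snd (pullback.fst p₁ (pullback.fst π a) ≫ q)
        (pullback.snd p₁ (pullback.fst π a) ≫ pullback.snd π a) (by rw [Category.assoc]; exact (key a).w),
      Scheme.Hom.comp_base, TopCat.coe_comp] at hq
    exact Topology.IsQuotientMap.of_comp t.continuous (pullback.snd p a).continuous hq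
  · obtain ⟨z⟩ : Nonempty ↥(pullback π η) := by
      obtain ⟨y⟩ : Nonempty ↥(Spec (CommRingCat.of Ω)) := inferInstance
      exact ⟨((pullback.snd π η).surjective y).choose⟩
    let K := AlgebraicClosure ((pullback π η).residueField z)
    let k : Spec (CommRingCat.of K) ⟶ pullback π η :=
      Spec.map (CommRingCat.ofHom (algebraMap ((pullback π η).residueField z) K)) ≫ (pullback π η).fromSpecResidueField z
    haveI : UniversallyInjective (pullback.snd π η) := MorphismProperty.pullback_snd _ _ ‹_›
    haveI : Surjective k := ⟨fun z' => ⟨default, (pullback.snd π η).injective (Subsingleton.elim _ _)⟩⟩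
    haveI hc := h.2 K (k ≫ pullback.fst π η)
    have sq := key η
    let t : pullback p₁ (pullback.fst π η) ⟶ pullback p η :=
      pullback.lift (pullback.fst p₁ (pullback.fst π η) ≫ q) (pullback.snd p₁ (pullback.fst π η) ≫ pullback.snd π η)
        (by rw [Category.assoc]; exact (key η).w)
    haveI : Surjective t := by
      have sq' : IsPullback (pullback.fst p₁ (pullback.fst π η)) t q (pullback.fst p η) := by
        refine IsPullback.of_bot ?_ (pullback.lift_fst _ _ _).symm (IsPullback.of_hasPullback p η)
        rw [pullback.lift_snd]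
        exact sq
      exact MorphismProperty.of_isPullback (P := @Surjective) sq' ‹_›
    let s : pullback p₁ (k ≫ pullback.fst π η) ⟶ pullback p₁ (pullback.fst π η) :=
      pullback.lift (pullback.fst p₁ (k ≫ pullback.fst π η)) (pullback.snd p₁ (k ≫ pullback.fst π η) ≫ k)
        (by rw [Category.assoc]; exact pullback.condition)
    haveI : Surjective s := by
      have sq' : IsPullback (pullback.snd p₁ (k ≫ pullback.fst π η)) s k (pullback.snd p₁ (pullback.fst π η)) := by
        refine IsPullback.of_bot ?_ (pullback.lift_snd _ _ _).symm (IsPullback.of_hasPullback p₁ (pullback.fst π η)).flip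
        rw [pullback.lift_fst]
        exact (IsPullback.of_hasPullback p₁ (k ≫ pullback.fst π η)).flip
      exact MorphismProperty.of_isPullback (P := @Surjective) sq' ‹_›
    exact (s ≫ t).surjective.connectedSpace (s ≫ t).continuous

/-- A universal homeomorphic integral algebra over a strictly henselian local ring is strictly henselian local. -/
theorem strictlyHenselian_of_univHomeo {R R₁ : Type u} [CommRing R] [HenselianLocalRing R]
    [IsSepClosed (ResidueField R)] [CommRing R₁] [Algebra R R₁]
    [IsIntegralHom (Spec.map (CommRingCat.ofHom (algebraMap R R₁)))]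
    [UniversallyInjective (Spec.map (CommRingCat.ofHom (algebraMap R R₁)))]
    [Surjective (Spec.map (CommRingCat.ofHom (algebraMap R R₁)))] :
    ∃ (_ : HenselianLocalRing R₁), IsSepClosed (ResidueField R₁) ∧ IsLocalHom (algebraMap R R₁) := by
  haveI : Algebra.IsIntegral R R₁ := algebraMap_isIntegral_iff.1 ((IsIntegralHom.SpecMap_iff).1 ‹_›)
  haveI : Nonempty (PrimeSpectrum R₁) :=
    ⟨((Spec.map (CommRingCat.ofHom (algebraMap R R₁))).surjective (IsLocalRing.closedPoint R)).choose⟩
  haveI : Nontrivial R₁ := PrimeSpectrum.nonempty_iff_nontrivial.1 ‹_›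
  haveI : IsLocalRing R₁ := by
    refine IsLocalRing.of_unique_max_ideal ?_
    obtain ⟨m, hm⟩ := Ideal.exists_maximal R₁
    refine ⟨m, hm, fun n hn => ?_⟩
    have key : ∀ (n : Ideal R₁) (hn : n.IsMaximal),
        (Spec.map (CommRingCat.ofHom (algebraMap R R₁))).base ⟨n, hn.isPrime⟩ = IsLocalRing.closedPoint R := fun n hn => by
      haveI := hn
      exact PrimeSpectrum.ext (IsLocalRing.eq_maximalIdeal (Ideal.isMaximal_comap_of_isIntegral_of_isMaximal n))
    exact congrArg PrimeSpectrum.asIdeal
      ((Spec.map (CommRingCat.ofHom (algebraMap R R₁))).injective ((key n hn).trans (key m hm).symm))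
  obtain ⟨hH, hl⟩ := StrictHensBCLib.henselianLocalRing_of_integral (A := R) R₁
  haveI := hl
  exact ⟨hH, (StrictHensBCLib.residueField_of_integral (A := R) R₁).2, hl⟩

theorem comap_max {R S : Type u} [CommRing R] [IsLocalRing R] [CommRing S] [IsLocalRing S] (f : R →+* S) [IsLocalHom f] :
    (maximalIdeal S).comap f = maximalIdeal R :=
  Ideal.ext fun x => by simp [Ideal.mem_comap, mem_maximalIdeal, isUnit_map_iff]

/-- A morphism of strictly henselian local rings lying over a chart which becomes flat with geometrically reduced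
fibres after universal homeomorphisms has connected geometric fibres, universally submersively. -/
theorem submConn_of_chart {A B A₁ B₁ R R' : Type u} [CommRing A] [CommRing B] [CommRing A₁] [CommRing B₁] [CommRing R]
    [HenselianLocalRing R] [IsSepClosed (ResidueField R)] [CommRing R'] [HenselianLocalRing R']
    [IsSepClosed (ResidueField R')] [Algebra A B] [Algebra A A₁] [Algebra B B₁] [Algebra A₁ B₁]
    [Algebra A R] [Algebra B R'] [Algebra.WeaklyEtale A R] [Algebra.WeaklyEtale B R'] (ψ : R →+* R') [IsLocalHom ψ]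
    (hψ : ψ.comp (algebraMap A R) = (algebraMap B R').comp (algebraMap A B))
    (hsq : (algebraMap A₁ B₁).comp (algebraMap A A₁) = (algebraMap B B₁).comp (algebraMap A B))
    [IsIntegralHom (Spec.map (CommRingCat.ofHom (algebraMap A A₁)))]
    [UniversallyInjective (Spec.map (CommRingCat.ofHom (algebraMap A A₁)))]
    [Surjective (Spec.map (CommRingCat.ofHom (algebraMap A A₁)))]
    [IsIntegralHom (Spec.map (CommRingCat.ofHom (algebraMap B B₁)))]
    [UniversallyInjective (Spec.map (CommRingCat.ofHom (algebraMap B B₁)))]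
    [Surjective (Spec.map (CommRingCat.ofHom (algebraMap B B₁)))]
    [Flat (Spec.map (CommRingCat.ofHom (algebraMap A₁ B₁)))]
    [LocallyOfFinitePresentation (Spec.map (CommRingCat.ofHom (algebraMap A₁ B₁)))]
    [GeometricallyReduced (Spec.map (CommRingCat.ofHom (algebraMap A₁ B₁)))] :
    SubmConn (Spec.map (CommRingCat.ofHom ψ)) := by
  let R₁ : Type u := A₁ ⊗[A] R
  let S₁ : Type u := B₁ ⊗[B] R'
  letI : Algebra R R₁ := (Algebra.TensorProduct.includeRight : R →ₐ[A] R₁).toRingHom.toAlgebra
  letI : Algebra R' S₁ := (Algebra.TensorProduct.includeRight : R' →ₐ[B] S₁).toRingHom.toAlgebra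
  have sqR := isPullback_SpecMap_of_isPushout _ _ _ _ (CommRingCat.isPushout_tensorProduct A A₁ R)
  have sqS := isPullback_SpecMap_of_isPushout _ _ _ _ (CommRingCat.isPushout_tensorProduct B B₁ R')
  haveI : IsIntegralHom (Spec.map (CommRingCat.ofHom (algebraMap R R₁))) :=
    MorphismProperty.of_isPullback (P := @IsIntegralHom) sqR ‹_›
  haveI : UniversallyInjective (Spec.map (CommRingCat.ofHom (algebraMap R R₁))) :=
    MorphismProperty.of_isPullback (P := @UniversallyInjective) sqR ‹_›
  haveI : Surjective (Spec.map (CommRingCat.ofHom (algebraMap R R₁))) :=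
    MorphismProperty.of_isPullback (P := @Surjective) sqR ‹_›
  haveI : IsIntegralHom (Spec.map (CommRingCat.ofHom (algebraMap R' S₁))) :=
    MorphismProperty.of_isPullback (P := @IsIntegralHom) sqS ‹_›
  haveI : UniversallyInjective (Spec.map (CommRingCat.ofHom (algebraMap R' S₁))) :=
    MorphismProperty.of_isPullback (P := @UniversallyInjective) sqS ‹_›
  haveI : Surjective (Spec.map (CommRingCat.ofHom (algebraMap R' S₁))) :=
    MorphismProperty.of_isPullback (P := @Surjective) sqS ‹_›
  obtain ⟨hR₁, hR₁s, hR₁l⟩ := strictlyHenselian_of_univHomeo (R := R) (R₁ := R₁)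
  obtain ⟨hS₁, hS₁s, hS₁l⟩ := strictlyHenselian_of_univHomeo (R := R') (R₁ := S₁)
  haveI := hR₁; haveI := hR₁s; haveI := hR₁l; haveI := hS₁; haveI := hS₁s; haveI := hS₁l
  letI : Algebra A S₁ := ((algebraMap B S₁).comp (algebraMap A B)).toAlgebra
  let a : A₁ →ₐ[A] S₁ :=
    { (Algebra.TensorProduct.includeLeftRingHom : B₁ →+* S₁).comp (algebraMap A₁ B₁) with
      commutes' := fun r => by
        show ((algebraMap A₁ B₁) (algebraMap A A₁ r)) ⊗ₜ[B] (1 : R') = (algebraMap B B₁ (algebraMap A B r)) ⊗ₜ[B] 1
        rw [← RingHom.comp_apply, hsq, RingHom.comp_apply] }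
  let b : R →ₐ[A] S₁ :=
    { ((Algebra.TensorProduct.includeRight : R' →ₐ[B] S₁).toRingHom).comp ψ with
      commutes' := fun r => by
        show (1 : B₁) ⊗ₜ[B] ψ (algebraMap A R r) = (algebraMap B B₁ (algebraMap A B r)) ⊗ₜ[B] (1 : R')
        rw [← RingHom.comp_apply, hψ, RingHom.comp_apply]
        exact Algebra.TensorProduct.tmul_one_eq_one_tmul (algebraMap A B r) |>.symm }
  let ψ₁ : R₁ →ₐ[A] S₁ := Algebra.TensorProduct.lift a b fun _ _ => Commute.all _ _
  have hψ₁R : ψ₁.toRingHom.comp (algebraMap R R₁) = (algebraMap R' S₁).comp ψ := RingHom.ext fun r => by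
    show ψ₁ ((1 : A₁) ⊗ₜ r) = _
    simp only [ψ₁]
    rw [Algebra.TensorProduct.lift_tmul, map_one, one_mul]
    rfl
  letI : Algebra R₁ S₁ := ψ₁.toRingHom.toAlgebra
  haveI : IsLocalHom (algebraMap R₁ S₁) := ⟨fun x hx => by_contra fun hc => by
    have h1 : (Spec.map (CommRingCat.ofHom (algebraMap R R₁))).base
        ((Spec.map (CommRingCat.ofHom (algebraMap R₁ S₁))).base (IsLocalRing.closedPoint S₁)) =
        IsLocalRing.closedPoint R := by
      refine PrimeSpectrum.ext ?_
      show ((maximalIdeal S₁).comap (algebraMap R₁ S₁)).comap (algebraMap R R₁) = maximalIdeal R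
      rw [Ideal.comap_comap]
      show (maximalIdeal S₁).comap (ψ₁.toRingHom.comp (algebraMap R R₁)) = maximalIdeal R
      rw [hψ₁R, ← Ideal.comap_comap, comap_max (algebraMap R' S₁), comap_max ψ]
    have h2 : (Spec.map (CommRingCat.ofHom (algebraMap R R₁))).base (IsLocalRing.closedPoint R₁) =
        IsLocalRing.closedPoint R := PrimeSpectrum.ext (comap_max (algebraMap R R₁))
    have h3 := congrArg PrimeSpectrum.asIdeal
      ((Spec.map (CommRingCat.ofHom (algebraMap R R₁))).injective (h1.trans h2.symm))
    have h4 : x ∈ maximalIdeal R₁ := (mem_maximalIdeal _).2 hc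
    rw [show maximalIdeal R₁ = (IsLocalRing.closedPoint R₁).asIdeal from rfl, ← h3] at h4
    exact (mem_maximalIdeal _).1 (Ideal.mem_comap.1 h4) hx⟩
  let C : Type u := B₁ ⊗[A₁] R₁
  letI hCr : CommRing C := inferInstanceAs (CommRing (B₁ ⊗[A₁] R₁))
  letI : Algebra R₁ C := (Algebra.TensorProduct.includeRight : R₁ →ₐ[A₁] C).toRingHom.toAlgebra
  haveI : IsScalarTower A₁ R₁ S₁ := IsScalarTower.of_algebraMap_eq fun r => by
    show a r = ψ₁ (r ⊗ₜ (1 : R))
    simp only [ψ₁]
    rw [Algebra.TensorProduct.lift_tmul, map_one, mul_one]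
  haveI : IsScalarTower A₁ B₁ S₁ := IsScalarTower.of_algebraMap_eq fun _ => rfl
  let θ : C →ₐ[B₁] S₁ := Algebra.TensorProduct.lift (Algebra.ofId B₁ S₁) (IsScalarTower.toAlgHom A₁ R₁ S₁)
    fun _ _ => Commute.all _ _
  letI : Algebra C S₁ := θ.toRingHom.toAlgebra
  haveI : IsScalarTower B₁ C S₁ := IsScalarTower.of_algebraMap_eq' θ.comp_algebraMap.symm
  haveI : IsScalarTower R₁ C S₁ := IsScalarTower.of_algebraMap_eq fun r => by
    show ψ₁ r = θ ((1 : B₁) ⊗ₜ r)
    simp only [θ]
    rw [Algebra.TensorProduct.lift_tmul, map_one, one_mul]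
    rfl
  haveI : Algebra.WeaklyEtale C S₁ := Groth.Agent.S7127.result B₁ C S₁
  have sq := isPullback_SpecMap_of_isPushout _ _ _ _ (CommRingCat.isPushout_tensorProduct A₁ B₁ R₁)
  haveI : GeometricallyReduced (Spec.map (CommRingCat.ofHom (algebraMap R₁ C))) :=
    MorphismProperty.of_isPullback (P := @GeometricallyReduced) sq ‹_›
  haveI : Module.Flat R₁ C := by
    have h1 : Flat (Spec.map (CommRingCat.ofHom (algebraMap R₁ C))) :=
      MorphismProperty.of_isPullback (P := @Flat) sq ‹_›
    rw [HasRingHomProperty.Spec_iff (P := @Flat)] at h1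
    exact RingHom.flat_algebraMap_iff.1 h1
  haveI : Algebra.FinitePresentation R₁ C := by
    have h1 : LocallyOfFinitePresentation (Spec.map (CommRingCat.ofHom (algebraMap R₁ C))) :=
      MorphismProperty.of_isPullback (P := @LocallyOfFinitePresentation) sq ‹_›
    rw [HasRingHomProperty.Spec_iff (P := @LocallyOfFinitePresentation)] at h1
    exact RingHom.finitePresentation_algebraMap.1 h1
  have hconn := fun (Ω : Type u) (_ : Field Ω) (η : Spec (CommRingCat.of Ω) ⟶ Spec (CommRingCat.of R₁)) =>
    connectedSpace_pullback_spec (fun K _ _ => connected_fibre_of_fp (R := R₁) (R' := S₁) (A := C) K) Ω η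
  haveI : Module.Flat R₁ S₁ := Module.Flat.trans R₁ C S₁
  have h₁ : SubmConn (Spec.map (CommRingCat.ofHom (algebraMap R₁ S₁))) :=
    ⟨fun S' g => quotientMap_of_flat _ (RingHom.flat_algebraMap_iff.2 inferInstance)
      (surjective_of_conn _ fun Ω _ _ η => hconn Ω _ η) S' g, fun Ω _ _ η => hconn Ω _ η⟩
  refine submConn_of_univHomeo (Spec.map (CommRingCat.ofHom (algebraMap R' S₁)))
    (Spec.map (CommRingCat.ofHom (algebraMap R R₁))) ?_ h₁
  rw [← Spec.map_comp, ← Spec.map_comp]
  exact congrArg Spec.map (CommRingCat.hom_ext hψ₁R)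

end

end GenULocLib
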