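import Groth.Agent.GenULocLib.ULoc
import Groth.Agent.S1358
import Groth.Agent.S1301
import Groth.Agent.S0415

/-!
# Generic universal local 0-acyclicity
-/

set_option autoImplicit false
set_option linter.style.haveILetI false
set_option linter.unusedSectionVars false
set_option backward.isDefEq.respectTransparency false
set_option backward.isDefEq.respectTransparency.types false
universe u

open CategoryTheory CategoryTheory.Limits AlgebraicGeometry Opposite Topology

namespace GenULocLib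

noncomputable section

/-- A constructible set containing the generic point contains a nonempty open set. -/
theorem exists_open_subset_of_isConstructible {X : Type u} [TopologicalSpace X] [IrreducibleSpace X] {s : Set X}
    (hs : Topology.IsConstructible s) (η₀ : X) (hη : closure {η₀} = Set.univ) (hmem : η₀ ∈ s) :
    ∃ U : Set X, IsOpen U ∧ U.Nonempty ∧ U ⊆ s := by
  have key : (∃ U : Set X, IsOpen U ∧ U.Nonempty ∧ U ⊆ s) ∨ ∃ U : Set X, IsOpen U ∧ U.Nonempty ∧ U ⊆ sᶜ := by
    clear hmem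
    induction hs using Topology.IsConstructible.empty_union_induction with
    | open_retrocompact U hU hUc =>
      rcases U.eq_empty_or_nonempty with h | h
      · right; exact ⟨Set.univ, isOpen_univ, Set.univ_nonempty, by rw [h]; simp⟩
      · left; exact ⟨U, hU, h, subset_rfl⟩
    | union s hs t ht ihs iht =>
      rcases ihs with ⟨U, hU, hne, hsub⟩ | ⟨U, hU, hne, hsub⟩
      · left; exact ⟨U, hU, hne, hsub.trans Set.subset_union_left⟩
      · rcases iht with ⟨V, hV, hVne, hVsub⟩ | ⟨V, hV, hVne, hVsub⟩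
        · left; exact ⟨V, hV, hVne, hVsub.trans Set.subset_union_right⟩
        · right
          refine ⟨U ∩ V, hU.inter hV, nonempty_preirreducible_inter hU hV hne hVne, ?_⟩
          rw [Set.compl_union]
          exact Set.inter_subset_inter hsub hVsub
    | compl s hs ih =>
      rcases ih with h | h
      · right; simpa using h
      · left; exact h
  rcases key with h | ⟨U, hU, ⟨y, hy⟩, hsub⟩
  · exact h
  · have : η₀ ∈ U := (specializes_iff_mem_closure.2 (hη ▸ Set.mem_univ y)).mem_open hU hy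
    exact absurd hmem (hsub this)

/-- A model over an open immersion gives a model at the points of its image. -/
theorem modelAt_of_imm {X S O S₁ X₁ : Scheme.{u}} (f : X ⟶ S) (o : O ⟶ S) [IsOpenImmersion o] (π : S₁ ⟶ O)
    [IsIntegralHom π] [UniversallyInjective π] [Surjective π] (p : X₁ ⟶ pullback f o) [IsIntegralHom p]
    [UniversallyInjective p] [Surjective p] (f₁ : X₁ ⟶ S₁) [Flat f₁] [LocallyOfFinitePresentation f₁]
    [GeometricallyReduced f₁] (w : p ≫ pullback.snd f o = f₁ ≫ π) (s : S) (hs : s ∈ Set.range o.base) :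
    ModelAt f s := by
  let i : O ⟶ o.opensRange.toScheme := IsOpenImmersion.lift o.opensRange.ι o (by simp)
  have hi : i ≫ o.opensRange.ι = o := IsOpenImmersion.lift_fac _ _ _
  haveI : IsIso i := by
    haveI : IsOpenImmersion (i ≫ o.opensRange.ι) := by rw [hi]; infer_instance
    haveI : IsOpenImmersion i := IsOpenImmersion.of_comp i o.opensRange.ι
    haveI : Surjective i := ⟨fun z => by
      obtain ⟨z', hz'⟩ := z.2
      exact ⟨z', Subtype.ext ((congrArg (fun k : O ⟶ S => k.base z') hi).trans hz')⟩⟩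
    exact (isIso_iff_isOpenImmersion_and_epi_base i).2 ⟨‹_›, (TopCat.epi_iff_surjective _).2 i.surjective⟩
  have hj : (pullback.fst f o) ≫ f = (pullback.snd f o ≫ i) ≫ o.opensRange.ι := by
    rw [Category.assoc, hi, pullback.condition]
  let j : pullback f o ⟶ (f ⁻¹ᵁ o.opensRange).toScheme :=
    (isPullback_morphismRestrict f o.opensRange).flip.lift (pullback.fst f o) (pullback.snd f o ≫ i) hj
  have sq : IsPullback j (pullback.snd f o) (f ∣_ o.opensRange) i := by
    refine IsPullback.of_right ?_ ((isPullback_morphismRestrict f o.opensRange).flip.lift_snd _ _ _)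
      (isPullback_morphismRestrict f o.opensRange).flip
    rw [IsPullback.lift_fst, hi]
    exact IsPullback.of_hasPullback f o
  haveI : IsIso j := sq.isIso_fst_of_isIso
  refine ⟨o.opensRange, S₁, X₁, π ≫ i, p ≫ j, f₁, hs, inferInstance,
    MorphismProperty.comp_mem @UniversallyInjective π i ‹_› inferInstance, inferInstance, inferInstance,
    MorphismProperty.comp_mem @UniversallyInjective p j ‹_› inferInstance, inferInstance, ‹_›, ‹_›, ‹_›, ?_⟩
  rw [Category.assoc, sq.w, reassoc_of% w]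

/-- Over an irreducible noetherian base some point has a model. -/
theorem exists_modelAt_irreducible {X S : Scheme.{u}} (f : X ⟶ S) [IsLocallyNoetherian S] [IrreducibleSpace S]
    [LocallyOfFiniteType f] [QuasiCompact f] :
    ∃ (O S₁ X₁ : Scheme.{u}) (o : O ⟶ S) (_ : IsOpenImmersion o) (π : S₁ ⟶ O) (_ : IsIntegralHom π)
      (_ : UniversallyInjective π) (_ : Surjective π) (p : X₁ ⟶ pullback f o) (_ : IsIntegralHom p)
      (_ : UniversallyInjective p) (_ : Surjective p) (f₁ : X₁ ⟶ S₁) (_ : Flat f₁) (_ : LocallyOfFinitePresentation f₁)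
      (_ : GeometricallyReduced f₁), p ≫ pullback.snd f o = f₁ ≫ π ∧ Nonempty O := by
  obtain ⟨V, Y', g, X', r, hY', ⟨v, hv⟩, haff, hfin, hg, hr, hrs, -, hfl, hfp, hqc, -, hgen⟩ :=
    Groth.Agent.S1358.result f
  haveI := hY'; haveI := haff; haveI := hfin; haveI := hr; haveI := hrs; haveI := hfl; haveI := hfp; haveI := hqc
  obtain ⟨hgi, hgu, hgs⟩ := (Groth.Agent.S0415.result g).1 hg
  haveI := hgu; haveI := hgs
  let f' := r ≫ pullback.snd f (g ≫ V.ι)
  haveI : IsLocallyNoetherian Y' := LocallyOfFiniteType.isLocallyNoetherian g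
  haveI : IsNoetherian Y' := { }
  have hE : IsConstructible {y : Y' | GeometricallyReduced (f'.fiberToSpecResidueField y)} :=
    IsLocallyConstructible.isConstructible (Groth.Agent.S1301.result f')
  obtain ⟨W, hW, ⟨y₁, hy₁⟩, hWE⟩ :=
    exists_open_subset_of_isConstructible hE (genericPoint Y') (genericPoint_spec Y') hgen
  let W₁ : Y'.Opens := ⟨W, hW⟩
  let O₀ : V.toScheme.Opens := ⟨g.base '' W, by
    rw [← isClosed_compl_iff, ← Set.image_compl_eq ⟨g.injective, g.surjective⟩]
    exact g.isClosedMap _ hW.isClosed_compl⟩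
  have hpre : g ⁻¹ᵁ O₀ = W₁ := TopologicalSpace.Opens.ext (Set.preimage_image_eq W g.injective)
  haveI : GeometricallyReduced (f' ∣_ (g ⁻¹ᵁ O₀)) := by
    refine ⟨geometrically_iff_forall_fiberToSpecResidueField.2 fun y => ?_⟩
    let y' : Y' := (g ⁻¹ᵁ O₀).ι.base y
    have hy : y' ∈ W₁ := hpre.le y.2
    have h1 : geometrically IsReduced (f'.fiberToSpecResidueField y') := (hWE hy).geometrically_isReduced
    refine geometrically_iff_of_isClosedUnderIsomorphisms.2 fun K _ k => ?_
    have sq := (((IsPullback.of_hasPullback ((f' ∣_ (g ⁻¹ᵁ O₀)).fiberToSpecResidueField y) k).flip.paste_vert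
      (IsPullback.of_hasPullback (f' ∣_ (g ⁻¹ᵁ O₀)) ((g ⁻¹ᵁ O₀).toScheme.fromSpecResidueField y)).flip).paste_vert
        (isPullback_morphismRestrict f' (g ⁻¹ᵁ O₀))).flip
    obtain ⟨⟨z, φ⟩, hz⟩ := (Scheme.SpecToEquivOfField K Y').symm.surjective
      (k ≫ (g ⁻¹ᵁ O₀).toScheme.fromSpecResidueField y ≫ (g ⁻¹ᵁ O₀).ι)
    have hz' : Spec.map φ ≫ Y'.fromSpecResidueField z =
      k ≫ (g ⁻¹ᵁ O₀).toScheme.fromSpecResidueField y ≫ (g ⁻¹ᵁ O₀).ι := hz
    have hzy : z = y' := by
      have h := congrArg (fun m : Spec (CommRingCat.of K) ⟶ Y' => m.base default) hz'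
      simp only [Scheme.Hom.comp_apply, Scheme.fromSpecResidueField_apply] at h
      exact h
    subst hzy
    replace sq := (show (k ≫ (g ⁻¹ᵁ O₀).toScheme.fromSpecResidueField y) ≫ (g ⁻¹ᵁ O₀).ι = _ from
      (Category.assoc _ _ _).trans hz'.symm) ▸ sq
    haveI := pullback_of_geometrically h1 K (Spec.map φ)
    exact isReduced_of_isOpenImmersion
      (sq.isoIsPullback _ _ ((IsPullback.of_hasPullback (f'.fiberToSpecResidueField y') (Spec.map φ)).flip.paste_vert
        (IsPullback.of_hasPullback f' (Y'.fromSpecResidueField y')).flip).flip).hom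
  let o : O₀.toScheme ⟶ S := O₀.ι ≫ V.ι
  let π : (g ⁻¹ᵁ O₀).toScheme ⟶ O₀.toScheme := g ∣_ O₀
  have sqg : IsPullback (g ⁻¹ᵁ O₀).ι π g O₀.ι := (isPullback_morphismRestrict g O₀).flip
  haveI : IsIntegralHom π := MorphismProperty.of_isPullback (P := @IsIntegralHom) sqg hgi
  haveI : UniversallyInjective π := MorphismProperty.of_isPullback (P := @UniversallyInjective) sqg hgu
  haveI : Surjective π := MorphismProperty.of_isPullback (P := @Surjective) sqg hgs
  have sqf : IsPullback (f' ⁻¹ᵁ g ⁻¹ᵁ O₀).ι (f' ∣_ (g ⁻¹ᵁ O₀)) f' (g ⁻¹ᵁ O₀).ι :=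
    (isPullback_morphismRestrict f' (g ⁻¹ᵁ O₀)).flip
  let T := pullback f ((g ⁻¹ᵁ O₀).ι ≫ g ≫ V.ι)
  let t : T ⟶ pullback f (g ≫ V.ι) := pullback.lift (pullback.fst _ _) (pullback.snd _ _ ≫ (g ⁻¹ᵁ O₀).ι)
    (by rw [Category.assoc]; exact pullback.condition)
  have sqt : IsPullback t (pullback.snd f ((g ⁻¹ᵁ O₀).ι ≫ g ≫ V.ι)) (pullback.snd f (g ≫ V.ι)) (g ⁻¹ᵁ O₀).ι := by
    refine IsPullback.of_right ?_ (pullback.lift_snd _ _ _) (IsPullback.of_hasPullback f (g ≫ V.ι))
    rw [pullback.lift_fst]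
    exact IsPullback.of_hasPullback _ _
  let u : (f' ⁻¹ᵁ g ⁻¹ᵁ O₀).toScheme ⟶ T :=
    sqt.lift ((f' ⁻¹ᵁ g ⁻¹ᵁ O₀).ι ≫ r) (f' ∣_ (g ⁻¹ᵁ O₀)) (by rw [Category.assoc, morphismRestrict_ι])
  have squ : IsPullback (f' ⁻¹ᵁ g ⁻¹ᵁ O₀).ι u r t := by
    refine IsPullback.of_bot ?_ (sqt.lift_fst _ _ _).symm sqt
    rw [sqt.lift_snd]
    exact sqf
  let v : T ⟶ pullback f o := pullback.lift (pullback.fst _ _) (pullback.snd _ _ ≫ π) (by
    rw [pullback.condition, Category.assoc]
    simp [π, o])
  have sqv : IsPullback (pullback.snd f ((g ⁻¹ᵁ O₀).ι ≫ g ≫ V.ι)) v π (pullback.snd f o) := by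
    refine IsPullback.of_bot ?_ (pullback.lift_snd _ _ _).symm (IsPullback.of_hasPullback f o).flip
    rw [pullback.lift_fst]
    have e : π ≫ o = (g ⁻¹ᵁ O₀).ι ≫ g ≫ V.ι := by simp [π, o]
    rw [e]
    exact (IsPullback.of_hasPullback _ _).flip
  haveI : IsIntegralHom v := MorphismProperty.of_isPullback (P := @IsIntegralHom) sqv ‹_›
  haveI : UniversallyInjective v := MorphismProperty.of_isPullback (P := @UniversallyInjective) sqv ‹_›
  haveI : Surjective v := MorphismProperty.of_isPullback (P := @Surjective) sqv ‹_›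
  haveI : IsClosedImmersion u := MorphismProperty.of_isPullback (P := @IsClosedImmersion) squ hr
  haveI : Surjective u := MorphismProperty.of_isPullback (P := @Surjective) squ hrs
  haveI : Flat (f' ∣_ (g ⁻¹ᵁ O₀)) := MorphismProperty.of_isPullback (P := @Flat) sqf hfl
  haveI : LocallyOfFinitePresentation (f' ∣_ (g ⁻¹ᵁ O₀)) :=
    MorphismProperty.of_isPullback (P := @LocallyOfFinitePresentation) sqf hfp
  refine ⟨O₀.toScheme, _, _, o, inferInstance, π, inferInstance, inferInstance, inferInstance, u ≫ v, inferInstance,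
    MorphismProperty.comp_mem @UniversallyInjective u v inferInstance ‹_›, inferInstance, f' ∣_ (g ⁻¹ᵁ O₀),
    inferInstance, inferInstance, inferInstance, ?_, ⟨⟨g.base y₁, y₁, hy₁, rfl⟩⟩⟩
  rw [Category.assoc, pullback.lift_snd, ← Category.assoc, sqt.lift_snd]

/-- A morphism of finite type to a noetherian scheme has models over a dense open. -/
theorem exists_dense_model {X S : Scheme.{u}} (f : X ⟶ S) [IsNoetherian S] [LocallyOfFiniteType f] [QuasiCompact f] :
    ∃ U : S.Opens, Dense (U : Set S) ∧ ∀ s ∈ U, ModelAt f s := by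
  refine ⟨⟨{s | ModelAt f s}, isOpen_iff_forall_mem_open.2 fun s hs => ?_⟩, ?_, fun s hs => hs⟩
  · obtain ⟨O, S₁, X₁, π, p, f₁, hsO, hrest⟩ := hs
    exact ⟨O, fun s' hs' => ⟨O, S₁, X₁, π, p, f₁, hs', hrest⟩, O.isOpen, hsO⟩
  · refine dense_iff_inter_open.2 fun W hW hne => ?_
    let W' : S.Opens := ⟨W, hW⟩
    haveI : Nonempty W'.toScheme := hne.to_subtype
    haveI : TopologicalSpace.NoetherianSpace W'.toScheme := TopologicalSpace.NoetherianSpace.set (α := S) W
    obtain ⟨Z, hZ, -⟩ := exists_mem_irreducibleComponents_subset_of_isIrreducible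
      ({Classical.arbitrary W'.toScheme} : Set W'.toScheme) isIrreducible_singleton
    obtain ⟨o, ho, ⟨z, hz⟩, hoZ⟩ :=
      TopologicalSpace.NoetherianSpace.exists_isOpen_nonempty_subset_irreducibleComponent Z hZ
    let W₀ : S.Opens := W'.ι ''ᵁ ⟨o, ho⟩
    haveI : IrreducibleSpace W₀.toScheme := by
      have h1 : IsPreirreducible ((W'.ι.base) '' o) :=
        (hZ.1.isPreirreducible.open_subset ho hoZ).image _ W'.ι.continuous.continuousOn
      haveI : PreirreducibleSpace W₀.toScheme := by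
        show PreirreducibleSpace ↥(W₀ : Set S)
        exact Subtype.preirreducibleSpace h1
      haveI : Nonempty W₀.toScheme := ⟨⟨_, z, hz, rfl⟩⟩
      exact ⟨‹_›⟩
    haveI : IsLocallyNoetherian W₀.toScheme := isLocallyNoetherian_of_isOpenImmersion W₀.ι
    haveI : LocallyOfFiniteType (f ∣_ W₀) :=
      MorphismProperty.of_isPullback (P := @LocallyOfFiniteType) (isPullback_morphismRestrict f W₀).flip inferInstance
    haveI : QuasiCompact (f ∣_ W₀) :=
      MorphismProperty.of_isPullback (P := @QuasiCompact) (isPullback_morphismRestrict f W₀).flip inferInstance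
    obtain ⟨O, S₁, X₁, o', ho', π, hπ1, hπ2, hπ3, p, hp1, hp2, hp3, f₁, hf1, hf2, hf3, w, ⟨y⟩⟩ :=
      exists_modelAt_irreducible (f ∣_ W₀)
    haveI := ho'; haveI := hπ1; haveI := hπ2; haveI := hπ3; haveI := hp1; haveI := hp2; haveI := hp3
    haveI := hf1; haveI := hf2; haveI := hf3
    have sq : IsPullback (pullback.fst (f ∣_ W₀) o' ≫ (f ⁻¹ᵁ W₀).ι) (pullback.snd (f ∣_ W₀) o') f (o' ≫ W₀.ι) :=
      (IsPullback.of_hasPullback _ _).paste_horiz (isPullback_morphismRestrict f W₀).flip
    haveI : UniversallyInjective (p ≫ sq.isoPullback.hom) :=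
      MorphismProperty.comp_mem @UniversallyInjective p _ ‹_› inferInstance
    refine ⟨(o' ≫ W₀.ι).base y, ?_, modelAt_of_imm f (o' ≫ W₀.ι) π (p ≫ sq.isoPullback.hom) f₁ ?_ _ ⟨y, rfl⟩⟩
    · obtain ⟨w', -, hw'⟩ := (o'.base y).2
      show W₀.ι.base (o'.base y) ∈ W
      rw [show W₀.ι.base (o'.base y) = W'.ι.base w' from hw'.symm]
      exact w'.2
    · rw [Category.assoc, sq.isoPullback_hom_snd, w]

end

end GenULocLib
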