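import Groth.Agent.GenULocLib.Core
import Groth.Agent.EtProperH0Lib.ULocMain

/-!
# Universal local 0-acyclicity up to universal homeomorphisms
-/

set_option autoImplicit false
set_option linter.style.haveILetI false
set_option linter.unusedSectionVars false
set_option backward.isDefEq.respectTransparency false
set_option backward.isDefEq.respectTransparency.types false
universe u

open CategoryTheory CategoryTheory.Limits AlgebraicGeometry Opposite IsLocalRing EtProperH0Lib

namespace GenULocLib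

noncomputable section

/-- Near `s` the morphism becomes flat with geometrically reduced fibres after universal homeomorphisms. -/
def ModelAt {X S : Scheme.{u}} (f : X ⟶ S) (s : S) : Prop :=
  ∃ (O : S.Opens) (S₁ X₁ : Scheme.{u}) (π : S₁ ⟶ O.toScheme) (p : X₁ ⟶ (f ⁻¹ᵁ O).toScheme) (f₁ : X₁ ⟶ S₁),
    s ∈ O ∧ IsIntegralHom π ∧ UniversallyInjective π ∧ Surjective π ∧ IsIntegralHom p ∧ UniversallyInjective p ∧
      Surjective p ∧ Flat f₁ ∧ LocallyOfFinitePresentation f₁ ∧ GeometricallyReduced f₁ ∧ p ≫ f ∣_ O = f₁ ≫ π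

theorem modelAt_baseChange {X S X' S' : Scheme.{u}} {f : X ⟶ S} {g : X' ⟶ S'} {b' : X' ⟶ X} {b : S' ⟶ S}
    (H : IsPullback b' g f b) (s : S') (h : ModelAt f (b.base s)) : ModelAt g s := by
  obtain ⟨O, S₁, X₁, π, p, f₁, hs, h1, h2, h3, h4, h5, h6, h7, h8, h9, w⟩ := h
  have hle : g ⁻¹ᵁ b ⁻¹ᵁ O ≤ b' ⁻¹ᵁ f ⁻¹ᵁ O := by
    rw [← Scheme.Hom.comp_preimage, ← Scheme.Hom.comp_preimage, H.w]
  let c : (g ⁻¹ᵁ b ⁻¹ᵁ O).toScheme ⟶ (f ⁻¹ᵁ O).toScheme := b'.resLE _ _ hle
  have sq : IsPullback c (g ∣_ b ⁻¹ᵁ O) (f ∣_ O) (b ∣_ O) := by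
    refine IsPullback.of_right ?_ ?_ (isPullback_morphismRestrict f O).flip
    · rw [morphismRestrict_ι, Scheme.Hom.resLE_comp_ι]
      exact (isPullback_morphismRestrict g (b ⁻¹ᵁ O)).flip.paste_horiz H
    · apply (cancel_mono O.ι).1
      simp only [Category.assoc, morphismRestrict_ι, c, Scheme.Hom.resLE_comp_ι_assoc, morphismRestrict_ι_assoc, H.w]
  let S₁' := pullback π (b ∣_ O)
  let X₁' := pullback f₁ (pullback.fst π (b ∣_ O))
  have hw : (pullback.fst f₁ (pullback.fst π (b ∣_ O)) ≫ p) ≫ f ∣_ O =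
      (pullback.snd f₁ (pullback.fst π (b ∣_ O)) ≫ pullback.snd π (b ∣_ O)) ≫ b ∣_ O := by
    rw [Category.assoc, w, pullback.condition_assoc, pullback.condition, Category.assoc]
  let p' : X₁' ⟶ (g ⁻¹ᵁ b ⁻¹ᵁ O).toScheme :=
    sq.lift (pullback.fst f₁ (pullback.fst π (b ∣_ O)) ≫ p)
      (pullback.snd f₁ (pullback.fst π (b ∣_ O)) ≫ pullback.snd π (b ∣_ O)) hw
  have sq' : IsPullback (pullback.fst f₁ (pullback.fst π (b ∣_ O))) p' p c := by
    refine IsPullback.of_bot ?_ (sq.lift_fst _ _ _).symm sq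
    rw [sq.lift_snd, w]
    exact ((IsPullback.of_hasPullback f₁ (pullback.fst π (b ∣_ O))).flip.paste_horiz
      (IsPullback.of_hasPullback π (b ∣_ O)).flip).flip
  exact ⟨b ⁻¹ᵁ O, S₁', X₁', pullback.snd π (b ∣_ O), p', pullback.snd f₁ _, hs,
    MorphismProperty.pullback_snd _ _ h1, MorphismProperty.pullback_snd _ _ h2, MorphismProperty.pullback_snd _ _ h3,
    MorphismProperty.of_isPullback (P := @IsIntegralHom) sq' h4,
    MorphismProperty.of_isPullback (P := @UniversallyInjective) sq' h5,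
    MorphismProperty.of_isPullback (P := @Surjective) sq' h6, MorphismProperty.pullback_snd _ _ h7,
    MorphismProperty.pullback_snd _ _ h8, MorphismProperty.pullback_snd _ _ h9, sq.lift_snd _ _ _⟩

theorem specMap_appTop (P : MorphismProperty Scheme.{u}) [P.RespectsIso] {Y Z : Scheme.{u}} [IsAffine Y] [IsAffine Z]
    (π : Y ⟶ Z) (h : P π) {A : CommRingCat.{u}} (e : A ≅ Γ(Z, ⊤)) : P (Spec.map (e.hom ≫ π.appTop)) := by
  rw [Spec.map_comp, P.cancel_right_of_respectsIso]
  rwa [← P.cancel_left_of_respectsIso Y.isoSpec.hom, Scheme.isoSpec_hom_naturality, P.cancel_right_of_respectsIso]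

/-- The morphisms of strict localisations are universally submersive with connected geometric fibres. -/
theorem submConn_of_model {X S : Scheme.{u}} (f : X ⟶ S) (x : X) (h : ModelAt f (f.base x)) (RS : Type u)
    [CommRing RS] [IsLocalRing RS] [Algebra (S.presheaf.stalk (f.base x)) RS]
    [IsLocalHom (algebraMap (S.presheaf.stalk (f.base x)) RS)]
    [hS : Hensel.IsStrictHenselization (S.presheaf.stalk (f.base x)) RS]
    (RX : Type u) [CommRing RX] [IsLocalRing RX] [Algebra (X.presheaf.stalk x) RX]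
    [IsLocalHom (algebraMap (X.presheaf.stalk x) RX)] [hX : Hensel.IsStrictHenselization (X.presheaf.stalk x) RX]
    (ψ : RS →+* RX) [IsLocalHom ψ]
    (hψ : ψ.comp (algebraMap (S.presheaf.stalk (f.base x)) RS) =
      (algebraMap (X.presheaf.stalk x) RX).comp (f.stalkMap x).hom) :
    SubmConn (Spec.map (CommRingCat.ofHom ψ)) := by
  haveI := hS.henselian
  haveI := hX.henselian
  haveI : IsSepClosed (ResidueField RS) := hS.isSepClosure.sep_closed
  haveI : IsSepClosed (ResidueField RX) := hX.isSepClosure.sep_closed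
  obtain ⟨O, S₁, X₁, π, p, f₁, hxO, h1, h2, h3, h4, h5, h6, h7, h8, h9, w⟩ := h
  obtain ⟨U, hU, hxU, hUO⟩ := exists_isAffineOpen_mem_and_subset (x := f.base x) (U := O) hxO
  obtain ⟨V, hV, hxV, hVU⟩ := exists_isAffineOpen_mem_and_subset (x := x) (U := f ⁻¹ᵁ U) hxU
  haveI : IsAffine U.toScheme := hU
  haveI : IsAffine V.toScheme := hV
  have hVO : V ≤ f ⁻¹ᵁ O := le_trans hVU (fun _ hz => hUO hz)
  let U₁ := pullback π (S.homOfLE hUO)
  let V₁ := pullback p (X.homOfLE hVO)
  let πU := pullback.snd π (S.homOfLE hUO)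
  let pV := pullback.snd p (X.homOfLE hVO)
  haveI : IsIntegralHom πU := MorphismProperty.pullback_snd _ _ h1
  haveI : UniversallyInjective πU := MorphismProperty.pullback_snd _ _ h2
  haveI : Surjective πU := MorphismProperty.pullback_snd _ _ h3
  haveI : IsIntegralHom pV := MorphismProperty.pullback_snd _ _ h4
  haveI : UniversallyInjective pV := MorphismProperty.pullback_snd _ _ h5
  haveI : Surjective pV := MorphismProperty.pullback_snd _ _ h6
  haveI : IsAffine U₁ := isAffine_of_isAffineHom πU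
  haveI : IsAffine V₁ := isAffine_of_isAffineHom pV
  have hres : X.homOfLE hVO ≫ f ∣_ O = f.resLE U V hVU ≫ S.homOfLE hUO := by
    apply (cancel_mono O.ι).1
    simp
  let f₁' : V₁ ⟶ U₁ := pullback.lift (pullback.fst p (X.homOfLE hVO) ≫ f₁) (pV ≫ f.resLE U V hVU) (by
    rw [Category.assoc, ← w, pullback.condition_assoc, Category.assoc, hres])
  haveI := h7; haveI := h8; haveI := h9
  have hf₁ : f₁' ≫ pullback.fst π (S.homOfLE hUO) = pullback.fst p (X.homOfLE hVO) ≫ f₁ := pullback.lift_fst _ _ _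
  haveI : Flat f₁' := by
    haveI : Flat (f₁' ≫ pullback.fst π (S.homOfLE hUO)) := by rw [hf₁]; infer_instance
    exact MorphismProperty.of_isPullback (P := @Flat)
      (IsPullback.of_horiz_isIso_mono (fst := 𝟙 _) (snd := f₁') (f := f₁' ≫ pullback.fst π (S.homOfLE hUO))
        (g := pullback.fst π (S.homOfLE hUO)) ⟨by simp⟩) ‹_›
  haveI : LocallyOfFinitePresentation f₁' := by
    haveI : LocallyOfFinitePresentation (f₁' ≫ pullback.fst π (S.homOfLE hUO)) := by rw [hf₁]; infer_instance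
    exact MorphismProperty.of_isPullback (P := @LocallyOfFinitePresentation)
      (IsPullback.of_horiz_isIso_mono (fst := 𝟙 _) (snd := f₁') (f := f₁' ≫ pullback.fst π (S.homOfLE hUO))
        (g := pullback.fst π (S.homOfLE hUO)) ⟨by simp⟩) ‹_›
  haveI : GeometricallyReduced f₁' := by
    haveI : GeometricallyReduced (f₁' ≫ pullback.fst π (S.homOfLE hUO)) := by
      rw [hf₁]
      exact geometricallyReduced_comp_weaklyEtale _ _
    exact MorphismProperty.of_isPullback (P := @GeometricallyReduced)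
      (IsPullback.of_horiz_isIso_mono (fst := 𝟙 _) (snd := f₁') (f := f₁' ≫ pullback.fst π (S.homOfLE hUO))
        (g := pullback.fst π (S.homOfLE hUO)) ⟨by simp⟩) ‹_›
  letI : Algebra Γ(S, U) RS :=
    ((algebraMap (S.presheaf.stalk (f.base x)) RS).comp (S.presheaf.germ U _ hxU).hom).toAlgebra
  letI : Algebra Γ(X, V) RX := ((algebraMap (X.presheaf.stalk x) RX).comp (X.presheaf.germ V x hxV).hom).toAlgebra
  haveI : Algebra.WeaklyEtale Γ(S, U) RS := weaklyEtale_sh_sections hU (f.base x) hxU RS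
  haveI : Algebra.WeaklyEtale Γ(X, V) RX := weaklyEtale_sh_sections hV x hxV RX
  letI : Algebra Γ(S, U) Γ(X, V) := (f.appLE U V hVU).hom.toAlgebra
  letI : Algebra Γ(S, U) Γ(U₁, ⊤) := (U.topIso.inv ≫ πU.appTop).hom.toAlgebra
  letI : Algebra Γ(X, V) Γ(V₁, ⊤) := (V.topIso.inv ≫ pV.appTop).hom.toAlgebra
  letI : Algebra Γ(U₁, ⊤) Γ(V₁, ⊤) := f₁'.appTop.hom.toAlgebra
  haveI : IsIntegralHom (Spec.map (CommRingCat.ofHom (algebraMap Γ(S, U) Γ(U₁, ⊤)))) :=
    specMap_appTop @IsIntegralHom πU ‹_› U.topIso.symm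
  haveI : UniversallyInjective (Spec.map (CommRingCat.ofHom (algebraMap Γ(S, U) Γ(U₁, ⊤)))) :=
    specMap_appTop @UniversallyInjective πU ‹_› U.topIso.symm
  haveI : Surjective (Spec.map (CommRingCat.ofHom (algebraMap Γ(S, U) Γ(U₁, ⊤)))) :=
    specMap_appTop @Surjective πU ‹_› U.topIso.symm
  haveI : IsIntegralHom (Spec.map (CommRingCat.ofHom (algebraMap Γ(X, V) Γ(V₁, ⊤)))) :=
    specMap_appTop @IsIntegralHom pV ‹_› V.topIso.symm
  haveI : UniversallyInjective (Spec.map (CommRingCat.ofHom (algebraMap Γ(X, V) Γ(V₁, ⊤)))) :=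
    specMap_appTop @UniversallyInjective pV ‹_› V.topIso.symm
  haveI : Surjective (Spec.map (CommRingCat.ofHom (algebraMap Γ(X, V) Γ(V₁, ⊤)))) :=
    specMap_appTop @Surjective pV ‹_› V.topIso.symm
  haveI : Flat (Spec.map (CommRingCat.ofHom (algebraMap Γ(U₁, ⊤) Γ(V₁, ⊤)))) := by
    have := specMap_appTop @Flat f₁' ‹_› (Iso.refl _)
    rwa [Iso.refl_hom, Category.id_comp] at this
  haveI : LocallyOfFinitePresentation (Spec.map (CommRingCat.ofHom (algebraMap Γ(U₁, ⊤) Γ(V₁, ⊤)))) := by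
    have := specMap_appTop @LocallyOfFinitePresentation f₁' ‹_› (Iso.refl _)
    rwa [Iso.refl_hom, Category.id_comp] at this
  haveI : GeometricallyReduced (Spec.map (CommRingCat.ofHom (algebraMap Γ(U₁, ⊤) Γ(V₁, ⊤)))) := by
    have := specMap_appTop @GeometricallyReduced f₁' ‹_› (Iso.refl _)
    rwa [Iso.refl_hom, Category.id_comp] at this
  have hcomm : (U.topIso.inv ≫ πU.appTop) ≫ f₁'.appTop = f.appLE U V hVU ≫ V.topIso.inv ≫ pV.appTop := by
    have e : f₁' ≫ πU = pV ≫ f.resLE U V hVU := pullback.lift_snd _ _ _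
    have e' : (f.resLE U V hVU).appTop = U.topIso.hom ≫ f.appLE U V hVU ≫ V.topIso.inv :=
      Scheme.Hom.resLE_app_top _ _
    rw [Category.assoc, ← Scheme.Hom.comp_appTop, e, Scheme.Hom.comp_appTop, e']
    simp
  refine submConn_of_chart (A := Γ(S, U)) (B := Γ(X, V)) (A₁ := Γ(U₁, ⊤)) (B₁ := Γ(V₁, ⊤)) ψ ?_
    (congrArg CommRingCat.Hom.hom hcomm)
  refine RingHom.ext fun a => ?_
  show ψ (algebraMap (S.presheaf.stalk (f.base x)) RS (S.presheaf.germ U _ hxU a)) =
    algebraMap (X.presheaf.stalk x) RX (X.presheaf.germ V x hxV (f.appLE U V hVU a))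
  rw [← RingHom.comp_apply ψ, hψ, RingHom.comp_apply, Scheme.Hom.germ_stalkMap_apply]
  refine congrArg _ (Eq.symm ?_)
  show X.presheaf.germ V x hxV (X.presheaf.map (homOfLE hVU).op (f.app U a)) = _
  exact X.presheaf.germ_res_apply (homOfLE hVU) x hxV _

theorem isULocZeroAcyclic_of_model {X S : Scheme.{u}} (f : X ⟶ S) (h : ∀ x : X, ModelAt f (f.base x)) :
    EtAcyc.IsULocZeroAcyclic f := by
  intro X₁ S₁ g b' b H x RY RX _ _ _ _ _ _ _ _ _ _ _ _ hψ
  refine isZeroAcyclic_of_submConn _ (submConn_of_model g x (modelAt_baseChange H _ ?_) RY RX (algebraMap RY RX) hψ)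
  rw [← Scheme.Hom.comp_apply, ← H.w]
  exact h (b'.base x)

theorem geomFibres_of_submConn {Z V : Scheme.{u}} {p : Z ⟶ V} (h : SubmConn p) :
    EtAcyc.GeomFibresAcyclicN Set.univ 0 p := by
  intro y Ω _ _ _ _
  let η := Spec.map (CommRingCat.ofHom (algebraMap Ω (AlgebraicClosure Ω))) ≫ EtAcyc.geomPt V y Ω
  haveI hc := h.2 (AlgebraicClosure Ω) η
  let k := Spec.map (CommRingCat.ofHom (algebraMap Ω (AlgebraicClosure Ω)))
  haveI : Surjective k := ⟨fun z => ⟨default, Subsingleton.elim _ _⟩⟩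
  let s : pullback p η ⟶ pullback p (EtAcyc.geomPt V y Ω) :=
    pullback.lift (pullback.fst p η) (pullback.snd p η ≫ k) (by rw [Category.assoc]; exact pullback.condition)
  haveI : Surjective s := by
    have sq : IsPullback (pullback.snd p η) s k (pullback.snd p (EtAcyc.geomPt V y Ω)) := by
      refine IsPullback.of_bot ?_ (pullback.lift_snd _ _ _).symm (IsPullback.of_hasPullback p _).flip
      rw [pullback.lift_fst]
      exact (IsPullback.of_hasPullback p η).flip
    exact MorphismProperty.of_isPullback (P := @Surjective) sq ‹_›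
  haveI := s.surjective.connectedSpace s.continuous
  exact ⟨inferInstance, inferInstance, fun _ _ _ q h1 h0 => absurd h1 (by omega)⟩

end

end GenULocLib
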